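import Cfsg.Agent.H257.El.SCC
import Cfsg.Agent.H257.El.Part
import Cfsg.Agent.H257.El.Row.B
import Cfsg.Agent.H573.Spor.BThree
import Cfsg.Agent.H136.Gen2.Chain
import Cfsg.Agent.S2084

/-!
# S3502: the Baby Monster (helper257)
-/

set_option autoImplicit false
set_option maxRecDepth 100000

namespace Cfsg.Agent.H257.El.Der

open Cfsg Subgroup Cfsg.Agent.OrdDiv Cfsg.Agent.H439.Der

universe u

section model

open Cfsg.Agent.BpTab Cfsg.Agent.CpAutBFive Cfsg.Agent.MFive
open Cfsg.Agent.LThreeMB (fr Zx XX KChart.Cent KChart.pi KChart.chart)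
open Cfsg.Agent.MonsterU Cfsg.Agent.MonsterU.Ch
open Cfsg.Agent.MonsterX Cfsg.Agent.MonsterX.MainBasic Cfsg.Agent.MonsterN Cfsg.Agent.MonsterP
open Cfsg.Agent.MonsterU.Lam2 (L2)

/-- elements of orders `p` and 7 of the Baby Monster do not commute -/
theorem ncomm_seven {p : ℕ} (hp : p.Prime) (hp2 : p ≠ 2) (hpd : ¬ p ∣ 4030387200 * 7) {x y : Spor.BabyMonster}
    (hx : orderOf x = p) (hy : orderOf y = 7) : x * y ≠ y * x := by
  have hfin : Finite ↥InstData.M.G := G_finite LitFin.all.hO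
  obtain ⟨⟨h1, -, ⟨e⟩⟩, -⟩ := ModelB.fieldsKS LitFin.all KDone.lnk KDone.lft (NodesGrp.prel LitFin.H)
    (NodesNe.ne LitFin.H) LitFin.conj_ten Cfsg.Agent.S1704.result KDone.lnk.x₀_mem
  obtain ⟨g, hg⟩ := ModelB.exists_conj_t LitFin.all.hG LitFin.all.hR KDone.lnk KDone.lft KDone.lnk.x₀_mem
  refine H478.SporBaby.ncomm_quot h1 e (p := p) (q := 7) hp (by norm_num) hp2 (by norm_num) ?_ hx hy
  intro a b ha hb hbt hab
  have h2 := H478.SporBaby.card_cent (isConj_iff.2 ⟨g, hg⟩) hb hbt
  have h3 : a ∈ centralizer ({b} : Set ↥InstData.M.G) := mem_centralizer_singleton_iff.2 hab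
  have h4 := orderOf_dvd_natCard (⟨a, h3⟩ : centralizer ({b} : Set ↥InstData.M.G))
  rw [Subgroup.orderOf_mk, ha, h2] at h4
  exact hpd h4

end model

section seven

open Cfsg.Spor Cfsg.Spor.BabyMonster Equiv
open Cfsg.Agent.H573.Spor.BThree (s rel s_ne tn)

/-- the Coxeter element of the path `t1, …, t6` -/
noncomputable def c7 : Spor.BabyMonster := s 0 * s 1 * s 2 * s 3 * s 4 * s 5

/-- the other arm -/
noncomputable def a10 : Spor.BabyMonster := PresentedGroup.of Gen.t10

noncomputable def a11 : Spor.BabyMonster := PresentedGroup.of Gen.t11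

/-- a cycle of length 7 -/
def cy : Perm (Fin 9) := swap 0 1 * swap 1 2 * swap 2 3 * swap 3 4 * swap 4 5 * swap 5 6

theorem orderOf_c7 : orderOf c7 = 7 := by
  have h7 : Fact (Nat.Prime 7) := ⟨by norm_num⟩
  obtain ⟨f, hf⟩ := Cfsg.Agent.H346.CoxA.exists_hom 8 s rel
  have hs : IsSimpleGroup (alternatingGroup (Fin 9)) := alternatingGroup.isSimpleGroup (by simp)
  let φ : alternatingGroup (Fin 9) →* Spor.BabyMonster := f.comp (alternatingGroup (Fin 9)).subtype
  have hk : φ.ker = ⊥ := by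
    refine (MonoidHom.normal_ker φ).eq_bot_or_eq_top.resolve_right fun h => s_ne ?_
    have h0 : f (Equiv.swap 0 1) = s 0 := hf 0
    have h1 : f (Equiv.swap 1 2) = s 1 := hf 1
    have hm : Equiv.swap (0 : Fin 9) 1 * Equiv.swap 1 2 ∈ alternatingGroup (Fin 9) := by
      rw [Equiv.Perm.mem_alternatingGroup]; decide
    have h2 : φ ⟨_, hm⟩ = 1 := by
      rw [← MonoidHom.mem_ker, h]; exact mem_top _
    have h3 : s 0 * s 1 = 1 := by
      rw [← h0, ← h1, ← map_mul]; exact h2
    have h4 : s 1 * s 1 = 1 := rel.sq 1 (by norm_num)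
    exact mul_right_cancel (h3.trans h4.symm)
  have hcy : cy ∈ alternatingGroup (Fin 9) := by
    rw [Equiv.Perm.mem_alternatingGroup]; decide +kernel
  have hfc : f cy = c7 := by
    unfold cy c7
    rw [map_mul, map_mul, map_mul, map_mul, map_mul]
    have h0 : f (Equiv.swap 0 1) = s 0 := hf 0
    have h1 : f (Equiv.swap 1 2) = s 1 := hf 1
    have h2 : f (Equiv.swap 2 3) = s 2 := hf 2
    have h3 : f (Equiv.swap 3 4) = s 3 := hf 3
    have h4 : f (Equiv.swap 4 5) = s 4 := hf 4
    have h5 : f (Equiv.swap 5 6) = s 5 := hf 5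
    rw [h0, h1, h2, h3, h4, h5]
  refine orderOf_eq_prime ?_ fun h => ?_
  · rw [← hfc, ← map_pow, show cy ^ 7 = 1 by decide +kernel, map_one]
  · have h1 : (⟨cy, hcy⟩ : alternatingGroup (Fin 9)) ∈ φ.ker := by
      rw [MonoidHom.mem_ker]
      exact hfc.trans h
    rw [hk, Subgroup.mem_bot] at h1
    have h2 : cy = 1 := congrArg Subtype.val h1
    exact absurd h2 (by decide +kernel)

theorem sq10 : a10 * a10 = 1 := Cfsg.Agent.BM.Psi.rel_of.sq Gen.t10

theorem sq11 : a11 * a11 = 1 := Cfsg.Agent.BM.Psi.rel_of.sq Gen.t11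

theorem braid_a : a10 * a11 * a10 = a11 * a10 * a11 := Cfsg.Agent.BM.Psi.rel_of.braid (by decide)

theorem a10_ne : a10 ≠ 1 := by
  intro h
  have h1 := Cfsg.Agent.BM.KHAll.index_cent .t10
  have h2 : (centralizer ({a10} : Set Spor.BabyMonster)).index = 13571955000 := h1
  rw [h, show centralizer ({1} : Set Spor.BabyMonster) = ⊤ by
    rw [eq_top_iff]
    intro x _
    rw [mem_centralizer_singleton_iff, mul_one, one_mul], index_top] at h2
  omega

theorem lab_eleven (t : Gen) (h1 : t ≠ .t11) (h2 : t ≠ .t10) : coxLabel edges .t11 t = 2 := by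
  cases t <;> first | rfl | exact absurd rfl h1 | exact absurd rfl h2

theorem a_ne : a10 ≠ a11 := by
  intro h
  have hc : centralizer ({a11} : Set Spor.BabyMonster) = ⊤ := by
    rw [eq_top_iff, ← PresentedGroup.closure_range_of, closure_le]
    rintro _ ⟨t, rfl⟩
    rw [SetLike.mem_coe, mem_centralizer_singleton_iff]
    by_cases h1 : t = .t11
    · subst h1; rfl
    by_cases h2 : t = .t10
    · subst h2
      show a10 * a11 = a11 * a10
      rw [h]
    · exact (Cfsg.Agent.BM.Psi.rel_of.comm (lab_eleven t h1 h2)).symm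
  have h1 := Cfsg.Agent.BM.KHAll.index_cent .t11
  have h2 : (centralizer ({a11} : Set Spor.BabyMonster)).index = 13571955000 := h1
  rw [hc, index_top] at h2
  omega

theorem orderOf_a10 : orderOf a10 = 2 := by
  have h2 : Fact (Nat.Prime 2) := ⟨Nat.prime_two⟩
  exact orderOf_eq_prime (by rw [pow_two, sq10]) a10_ne

theorem orderOf_a : orderOf (a10 * a11) = 3 := by
  have h3 : Fact (Nat.Prime 3) := ⟨Nat.prime_three⟩
  refine orderOf_eq_prime ?_ fun h => a_ne ?_
  · calc (a10 * a11) ^ 3 = (a10 * a11 * a10) * (a11 * a10 * a11) := by rw [pow_succ, pow_two]; group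
      _ = (a11 * a10 * a11) * (a11 * a10 * a11) := by rw [braid_a]
      _ = a11 * a10 * (a11 * a11) * a10 * a11 := by group
      _ = a11 * (a10 * a10) * a11 := by rw [sq11]; group
      _ = 1 := by rw [sq10, mul_one, sq11]
  · exact mul_right_cancel (h.trans sq11.symm)

theorem lab10 : ∀ i < 6, coxLabel edges (tn i) .t10 = 2 := by decide

theorem lab11 : ∀ i < 6, coxLabel edges (tn i) .t11 = 2 := by decide

theorem comm_of_forall {G : Type*} [Group G] {a b c d e f x : G} (h : ∀ y ∈ [a, b, c, d, e, f], y * x = x * y) :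
    (a * b * c * d * e * f) * x = x * (a * b * c * d * e * f) := by
  have k : ∀ y ∈ [a, b, c, d, e, f], Commute y x := h
  exact (((((k a (by simp)).mul_left (k b (by simp))).mul_left (k c (by simp))).mul_left (k d (by simp))).mul_left
    (k e (by simp))).mul_left (k f (by simp))

theorem comm10 : c7 * a10 = a10 * c7 := by
  refine comm_of_forall fun y hy => ?_
  simp only [List.mem_cons, List.not_mem_nil, or_false] at hy
  rcases hy with rfl | rfl | rfl | rfl | rfl | rfl
  · exact Cfsg.Agent.BM.Psi.rel_of.comm (lab10 0 (by norm_num))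
  · exact Cfsg.Agent.BM.Psi.rel_of.comm (lab10 1 (by norm_num))
  · exact Cfsg.Agent.BM.Psi.rel_of.comm (lab10 2 (by norm_num))
  · exact Cfsg.Agent.BM.Psi.rel_of.comm (lab10 3 (by norm_num))
  · exact Cfsg.Agent.BM.Psi.rel_of.comm (lab10 4 (by norm_num))
  · exact Cfsg.Agent.BM.Psi.rel_of.comm (lab10 5 (by norm_num))

theorem comm11 : c7 * a11 = a11 * c7 := by
  refine comm_of_forall fun y hy => ?_
  simp only [List.mem_cons, List.not_mem_nil, or_false] at hy
  rcases hy with rfl | rfl | rfl | rfl | rfl | rfl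
  · exact Cfsg.Agent.BM.Psi.rel_of.comm (lab11 0 (by norm_num))
  · exact Cfsg.Agent.BM.Psi.rel_of.comm (lab11 1 (by norm_num))
  · exact Cfsg.Agent.BM.Psi.rel_of.comm (lab11 2 (by norm_num))
  · exact Cfsg.Agent.BM.Psi.rel_of.comm (lab11 3 (by norm_num))
  · exact Cfsg.Agent.BM.Psi.rel_of.comm (lab11 4 (by norm_num))
  · exact Cfsg.Agent.BM.Psi.rel_of.comm (lab11 5 (by norm_num))

theorem b_model : ∃ x y z : Spor.BabyMonster, orderOf x = 7 ∧ orderOf y = 14 ∧ orderOf z = 21 := by
  refine ⟨c7, c7 * a10, c7 * (a10 * a11), orderOf_c7, ?_, ?_⟩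
  · rw [orderOf_mul_coprime orderOf_c7 orderOf_a10 (by norm_num) comm10]
  · rw [orderOf_mul_coprime orderOf_c7 orderOf_a (by norm_num)
      ((show Commute c7 a10 from comm10).mul_right (show Commute c7 a11 from comm11)).eq]

end seven

theorem three_b (tab : OrderTable.{u}) (known : Known.{u}) {T : Type u} [Group T] [Finite T] (h : Spor.IsoB T)
    (R : Subgroup T) (hR : R ≠ ⊤) : Three T R := by
  have hc := NotCT.Orders.b h
  have p7 : Nat.Prime 7 := by norm_num
  have p47 : Nat.Prime 47 := by norm_num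
  obtain ⟨e⟩ := h
  have hO : Nat.card (Cfsg.Out T) = 1 := by
    rw [card_out_congr e]
    exact S2084.result
  have hno : ∀ p : ℕ, p.Prime → p ≠ 2 → ¬ p ∣ 4030387200 * 7 → ∀ z : T, orderOf z ≠ p * 7 := fun p hp hp2 hpd =>
    noOrd_congr e (noOrd_of_noComm hp p7 fun x y hx hy => ncomm_seven hp hp2 hpd hx hy)
  by_cases h7 : 7 ∣ Nat.card R
  · have h47 : ¬ 47 ∣ Nat.card R := by
      intro h47
      refine false_of_chk tab known (r := 47) (p := 7) (ws := [])
        (l := [(2, 41), (3, 13), (5, 6), (7, 2), (11, 1), (13, 1), (17, 1), (19, 1), (23, 1), (31, 1), (47, 1)]) hc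
        p47 p7 (hno 47 p47 (by norm_num) (by norm_num)) (by simp) (by decide +kernel) hR h47 h7 (by simp)
    have hs47 : ¬ SC T 47 := not_SC_of_chk p47 hc hO.le (by decide +kernel)
    have key : ∀ w : ℕ, w.Prime → 47 ≠ w → w ∣ Nat.card T → ¬ w ∣ Nat.card R → Three T R := fun w hw hne hd hnd =>
      Three.of_two_primes p47 hw hne hd h47 hnd hs47
    by_contra hcon
    have hall : ∀ w ∈ [11, 13, 19, 23, 31], w.Prime ∧ w ∣ Nat.card R := by
      intro w hw
      have hwp : w.Prime ∧ 47 ≠ w ∧ w ∣ Nat.card T := by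
        rw [hc]
        simp only [List.mem_cons, List.not_mem_nil, or_false] at hw
        rcases hw with rfl | rfl | rfl | rfl | rfl <;> norm_num
      refine ⟨hwp.1, ?_⟩
      by_contra hnd
      exact hcon (key w hwp.1 hwp.2.1 hwp.2.2 hnd)
    refine false_of_chk tab known (r := 31) (p := 7) (ws := [11, 13, 19, 23])
      (l := [(2, 41), (3, 13), (5, 6), (7, 2), (11, 1), (13, 1), (17, 1), (19, 1), (23, 1), (31, 1), (47, 1)]) hc
      (by norm_num) p7 (hno 31 (by norm_num) (by norm_num) (by norm_num)) ?_ (by decide +kernel) hR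
      (hall 31 (by simp)).2 h7 fun w hw => (hall w ?_).2
    · intro w hw
      have hwp : w.Prime ∧ w ≠ 2 ∧ ¬ w ∣ 4030387200 * 7 := by
        simp only [List.mem_cons, List.not_mem_nil, or_false] at hw
        rcases hw with rfl | rfl | rfl | rfl <;> norm_num
      exact ⟨hwp.1, hno w hwp.1 hwp.2.1 hwp.2.2⟩
    · simp only [List.mem_cons, List.not_mem_nil, or_false] at hw ⊢
      rcases hw with rfl | rfl | rfl | rfl <;> simp
  · obtain ⟨x, y, z, hx, hy, hz⟩ := b_model
    have hx' : orderOf (e.symm x) = 7 := by rw [MulEquiv.orderOf_eq, hx]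
    have hy' : orderOf (e.symm y) = 14 := by rw [MulEquiv.orderOf_eq, hy]
    have hz' : orderOf (e.symm z) = 21 := by rw [MulEquiv.orderOf_eq, hz]
    exact Three.of_not_dvd h7 (not_SCC_of_orders (x := e.symm x) (y := e.symm y) (z := e.symm z)
      (by rw [hx']) (by rw [hy']; norm_num) (by rw [hz']; norm_num) (by rw [hx', hy']; norm_num)
      (by rw [hx', hz']; norm_num) (by rw [hy', hz']; norm_num)) ⟨e.symm x, by rw [hx']⟩

/-- **the row of the Baby Monster** -/
theorem rowS_b (tab : OrderTable.{u}) (known : Known.{u}) {T : Type u} [Group T] [Finite T] (h : Spor.IsoB T) :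
    RowS T :=
  RowS.of_three fun M hM => three_b tab known h M hM.1

end Cfsg.Agent.H257.El.Der
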