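import Cfsg.Agent.H257.El.SCC
import Cfsg.Agent.H257.El.Part
import Cfsg.Agent.H257.El.Row.Ly
import Cfsg.Agent.S2076

/-!
# S3502: the Lyons group (helper257)
-/

set_option autoImplicit false

namespace Cfsg.Agent.H257.El.Der

open Cfsg Subgroup Cfsg.Agent.OrdDiv Cfsg.Agent.H439.Der

universe u

theorem three_ly (tab : OrderTable.{u}) (known : Known.{u}) {T : Type u} [Group T] [Finite T] (h : Spor.IsoLy T)
    (R : Subgroup T) (hR : R ≠ ⊤) : Three T R := by
  have hc := NotCT.Orders.ly h
  have h67p : Nat.Prime 67 := by norm_num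
  have h67 : ∀ z : T, orderOf z ≠ 67 * 2 :=
    noOrd_of_noComm (by norm_num) Nat.prime_two (H393.Iso.na_ly h)
  have hno := Row.noOrd_ly tab known h
  have hO : Nat.card (Cfsg.Out T) = 1 := by
    obtain ⟨e⟩ := h
    rw [card_out_congr e]
    exact S2076.result
  obtain ⟨-, -, -, ⟨L⟩⟩ := Cfsg.Agent.TypeM.FactsLy.facts h
  obtain ⟨y, g, hy, hg, hgy⟩ := Row.exists_seven L
  by_cases h1 : 67 ∣ Nat.card R
  · have hyr : ¬ 67 ∣ Nat.card (centralizer ({y} : Set T)) := by
      intro hd
      have h2' : Fact (Nat.Prime 67) := ⟨h67p⟩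
      obtain ⟨⟨u, huC⟩, hu⟩ := exists_prime_orderOf_dvd_card' (G := centralizer ({y} : Set T)) 67 hd
      rw [Subgroup.orderOf_mk] at hu
      exact hno _ (orderOf_mul_of_comm h67p (by norm_num) (by norm_num) hu hy (mem_centralizer_singleton_iff.1 huC))
    have hmiss := miss_of_chk tab known (n := 51765179004000000) (r := 67) (p := 7) (ss := [])
      (l := [(2, 8), (3, 7), (5, 6), (7, 1), (11, 1), (31, 1), (37, 1), (67, 1)]) hc h67p (by norm_num)
      (by simp) (by decide +kernel) hy hyr hR h1 (by simp)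
    have hg2 : orderOf (g ^ 2) = 2 := by
      rw [orderOf_pow_of_dvd (by norm_num) (by rw [hg]; norm_num), hg]
    exact Three.of_comm (p := 7) (q₁ := 2) (q₂ := 4) hy hg2 hg (by norm_num) (by norm_num) (by norm_num) (by norm_num)
      (by norm_num) (by norm_num) ((show Commute y g from hgy.symm).pow_right 2).eq hgy.symm hmiss
  · refine Three.of_not_dvd h1 (not_SCC_of_chk h67p (by norm_num) hc hO h67 (by decide +kernel)) ?_
    have h2' : Fact (Nat.Prime 67) := ⟨h67p⟩
    obtain ⟨x, hx⟩ := exists_prime_orderOf_dvd_card' (G := T) 67 (by rw [hc]; norm_num)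
    exact ⟨x, by rw [hx]⟩

/-- **the row of the Lyons group** -/
theorem rowS_ly (tab : OrderTable.{u}) (known : Known.{u}) {T : Type u} [Group T] [Finite T] (h : Spor.IsoLy T) :
    RowS T :=
  RowS.of_three fun M hM => three_ly tab known h M hM.1

end Cfsg.Agent.H257.El.Der
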