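import Cfsg.Agent.H257.El.Der.Th
import Cfsg.Agent.H257.El.Row.M
import Cfsg.Agent.H478.SporBaby
import Cfsg.Agent.S2085

/-!
# S3502: the Monster (helper257)
-/

set_option autoImplicit false

namespace Cfsg.Agent.H257.El.Der

open Cfsg Subgroup Cfsg.Agent.OrdDiv Cfsg.Agent.H439.Der
open Cfsg.Agent.CTwoTab Cfsg.Agent.MonsterX.Model Cfsg.Agent.MonsterX.MainPack
  Cfsg.Agent.MonsterX.MainSimple Cfsg.Agent.MonsterX.MainBasic Cfsg.Agent.MonsterU.Assembly

universe u

theorem m_model : ∃ y : ↥Cfsg.Agent.MonsterX.InstData.M.G, orderOf y = 7 ∧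
    Nat.card (centralizer ({y} : Set ↥Cfsg.Agent.MonsterX.InstData.M.G)) = 4030387200 * 7 := by
  have A := Cfsg.Agent.MonsterU.Uncond.all
  have hfin := G_finite A.hO
  have : Fact (Nat.Prime 7) := ⟨by norm_num⟩
  obtain ⟨y, hy⟩ := exists_prime_orderOf_dvd_card' (G := ↥(centralizer ({tG A.hG A.hR} : Set ↥Cfsg.Agent.MonsterX.InstData.M.G))) 7
    (by rw [card_cent_t A.hG A.hR A.hL A.hO A.hT]; norm_num)
  rw [← Subgroup.orderOf_coe] at hy
  exact ⟨y, hy, H478.SporBaby.card_cent (v := tG A.hG A.hR) (IsConj.refl _) hy (mem_centralizer_singleton_iff.1 y.2)⟩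

theorem three_m (tab : OrderTable.{u}) (known : Known.{u}) {T : Type u} [Group T] [Finite T] (h : Spor.IsoM T)
    (R : Subgroup T) (hR : R ≠ ⊤) : Three T R := by
  have hc := NotCT.Orders.m h
  have p41 : Nat.Prime 41 := by norm_num
  have p59 : Nat.Prime 59 := by norm_num
  have p71 : Nat.Prime 71 := by norm_num
  have h59 : ∀ z : T, orderOf z ≠ 59 * 2 :=
    noOrd_of_noComm (by norm_num) Nat.prime_two (H393.Iso.na_m h (p := 59) (by simp))
  have h71 : ∀ z : T, orderOf z ≠ 71 * 2 :=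
    noOrd_of_noComm (by norm_num) Nat.prime_two (H393.Iso.na_m h (p := 71) (by simp))
  obtain ⟨e⟩ := h
  obtain ⟨f⟩ := Cfsg.Agent.MonsterP.Equiv.equiv
  have hO : Nat.card (Cfsg.Out T) = 1 := by
    rw [card_out_congr e]
    exact S2085.result
  obtain ⟨y, hy, hcy⟩ := exists_cent_congr (e.trans f) (P := fun k => k = 4030387200 * 7) m_model
  have hyr : ∀ r, (r = 41 ∨ r = 59) → ¬ r ∣ Nat.card (centralizer ({y} : Set T)) := by
    rintro r (rfl | rfl) <;> rw [hcy] <;> norm_num
  have hs59 : ¬ SC T 59 := not_SC_of_chk p59 hc hO.le (by decide +kernel)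
  have hs71 : ¬ SC T 71 := not_SC_of_chk p71 hc hO.le (by decide +kernel)
  have key : (∀ φ : T ≃* T, φ y ∉ R) → Three T R := fun hm =>
    three_of_card (q₁ := 2) (q₂ := 3) hy (by norm_num) (by norm_num) (by norm_num) (by norm_num) (by norm_num)
      (by norm_num) hcy (by norm_num) (by norm_num) hm
  have miss : ∀ r s : ℕ, (r = 41 ∨ r = 59) → r.Prime → s.Prime → (∀ z : T, orderOf z ≠ s * 2) →
      chkC 808017424794512875886459904961710757005754368000000000 [(2, 46), (3, 20), (5, 9), (7, 6), (11, 2), (13, 3),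
        (17, 1), (19, 1), (23, 1), (29, 1), (31, 1), (41, 1), (47, 1), (59, 1), (71, 1)] r 7 [s] = true →
      r ∣ Nat.card R → s ∣ Nat.card R → Three T R := by
    intro r s hr hrp hsp hs hchk hrR hsR
    refine key (miss_of_chk tab known hc hrp (by norm_num) ?_ hchk hy (hyr r hr) hR hrR ?_)
    · intro s' hs'
      rw [List.mem_singleton] at hs'
      subst hs'
      exact ⟨hsp, hs⟩
    · intro s' hs'
      rw [List.mem_singleton] at hs'
      subst hs'
      exact hsR
  have hd : ∀ p, (p = 41 ∨ p = 59 ∨ p = 71) → p ∣ Nat.card T := by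
    rintro p (rfl | rfl | rfl) <;> rw [hc] <;> norm_num
  by_cases h1 : 59 ∣ Nat.card R
  · by_cases h2 : 71 ∣ Nat.card R
    · exact miss 59 71 (Or.inr rfl) p59 p71 h71 (by decide +kernel) h1 h2
    · by_cases h3 : 41 ∣ Nat.card R
      · exact miss 41 59 (Or.inl rfl) p41 p59 h59 (by decide +kernel) h3 h1
      · exact Three.of_two_primes p71 p41 (by norm_num) (hd 41 (by simp)) h2 h3 hs71
  · by_cases h2 : 71 ∣ Nat.card R
    · by_cases h3 : 41 ∣ Nat.card R
      · exact miss 41 71 (Or.inl rfl) p41 p71 h71 (by decide +kernel) h3 h2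
      · exact Three.of_two_primes p59 p41 (by norm_num) (hd 41 (by simp)) h1 h3 hs59
    · exact Three.of_two_primes p59 p71 (by norm_num) (hd 71 (by simp)) h1 h2 hs59

/-- **the row of the Monster** -/
theorem rowS_m (tab : OrderTable.{u}) (known : Known.{u}) {T : Type u} [Group T] [Finite T] (h : Spor.IsoM T) :
    RowS T :=
  RowS.of_three fun M hM => three_m tab known h M hM.1

end Cfsg.Agent.H257.El.Der
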