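import Cfsg.Agent.H257.El.SCC
import Cfsg.Agent.H257.El.Part
import Cfsg.Agent.H257.El.Row.Th
import Cfsg.Agent.S2083

/-!
# S3502: the Thompson group (helper257)
-/

set_option autoImplicit false

namespace Cfsg.Agent.H257.El.Der

open Cfsg Subgroup Cfsg.Agent.OrdDiv Cfsg.Agent.H439.Der

universe u

/-- a missing element `y` with a centralizer of given order -/
theorem three_of_card {T : Type*} [Group T] [Finite T] {R : Subgroup T} {y : T} {p q₁ q₂ c : ℕ} (hy : orderOf y = p)
    (hp : p.Prime) (hq₁ : q₁.Prime) (hq₂ : q₂.Prime) (h1 : p ≠ q₁) (h2 : p ≠ q₂) (h3 : q₁ ≠ q₂)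
    (hc : Nat.card (centralizer ({y} : Set T)) = c) (hd₁ : q₁ ∣ c) (hd₂ : q₂ ∣ c) (hR : ∀ φ : T ≃* T, φ y ∉ R) :
    Three T R := by
  have := Fact.mk hq₁
  have := Fact.mk hq₂
  obtain ⟨⟨s, hsC⟩, hs⟩ := exists_prime_orderOf_dvd_card' (G := centralizer ({y} : Set T)) q₁ (by rw [hc]; exact hd₁)
  obtain ⟨⟨t, htC⟩, ht⟩ := exists_prime_orderOf_dvd_card' (G := centralizer ({y} : Set T)) q₂ (by rw [hc]; exact hd₂)
  rw [Subgroup.orderOf_mk] at hs ht
  exact Three.of_comm hy hs ht hp.pos ((Nat.coprime_primes hp hq₁).2 h1) ((Nat.coprime_primes hp hq₂).2 h2)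
    hq₁.ne_one hq₂.ne_one h3 (mem_centralizer_singleton_iff.1 hsC).symm (mem_centralizer_singleton_iff.1 htC).symm hR

theorem th_model : ∃ y : Spor.Th, orderOf y = 7 ∧ (Nat.card (centralizer ({y} : Set Spor.Th)) = 7 * 168 ∨
    Nat.card (centralizer ({y} : Set Spor.Th)) = 7 * 360) := by
  have hfin : Finite Spor.Th := Nat.finite_of_card_ne_zero (by rw [H723.Spor.Th.card_th]; norm_num)
  have : Fact (Nat.Prime 2) := ⟨Nat.prime_two⟩
  have : Fact (Nat.Prime 7) := ⟨by norm_num⟩
  obtain ⟨t, ht⟩ := exists_prime_orderOf_dvd_card' (G := Spor.Th) 2 (by rw [H723.Spor.Th.card_th]; norm_num)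
  obtain ⟨y, hy⟩ := exists_prime_orderOf_dvd_card' (G := ↥(centralizer ({t} : Set Spor.Th))) 7
    (by rw [MonsterX.ThOneClass.card_centralizer ht]; norm_num)
  rw [← Subgroup.orderOf_coe] at hy
  have hyt := mem_centralizer_singleton_iff.1 y.2
  exact ⟨y, hy, H723.Spor.Th.card_seven Cfsg.Agent.KFacts.Th.Main.ctx H723.Spor.Th.hone hy ht hyt.symm⟩

theorem three_th (tab : OrderTable.{u}) (known : Known.{u}) {T : Type u} [Group T] [Finite T] (h : Spor.IsoTh T)
    (R : Subgroup T) (hR : R ≠ ⊤) : Three T R := by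
  have hc := NotCT.Orders.th h
  have p13 : Nat.Prime 13 := by norm_num
  have p19 : Nat.Prime 19 := by norm_num
  have p31 : Nat.Prime 31 := by norm_num
  obtain ⟨e⟩ := h
  have hO : Nat.card (Cfsg.Out T) = 1 := by
    rw [card_out_congr e]
    exact S2083.result
  obtain ⟨y, hy, hcy⟩ := exists_cent_congr e (P := fun k => k = 7 * 168 ∨ k = 7 * 360) th_model
  have hyr : ∀ r, (r = 19 ∨ r = 31) → ¬ r ∣ Nat.card (centralizer ({y} : Set T)) := by
    rintro r (rfl | rfl) <;> rcases hcy with h1 | h1 <;> rw [h1] <;> norm_num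
  have hno : ∀ s, s.Prime → ¬ s ∣ 92897280 → ∀ z : T, orderOf z ≠ s * 2 := fun s hs hd =>
    noOrd_congr e (Row.noOrd_th hs hd)
  have hs13 : ¬ SC T 13 := not_SC_of_chk p13 hc hO.le (by decide +kernel)
  have hs31 : ¬ SC T 31 := not_SC_of_chk p31 hc hO.le (by decide +kernel)
  have key : (∀ φ : T ≃* T, φ y ∉ R) → Three T R := by
    intro hm
    rcases hcy with h1 | h1
    · exact three_of_card (q₁ := 2) (q₂ := 3) hy (by norm_num) (by norm_num) (by norm_num) (by norm_num) (by norm_num)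
        (by norm_num) h1 (by norm_num) (by norm_num) hm
    · exact three_of_card (q₁ := 2) (q₂ := 3) hy (by norm_num) (by norm_num) (by norm_num) (by norm_num) (by norm_num)
        (by norm_num) h1 (by norm_num) (by norm_num) hm
  have miss : ∀ r s : ℕ, (r = 19 ∨ r = 31) → r.Prime → s.Prime → ¬ s ∣ 92897280 →
      chkC 90745943887872000 [(2, 15), (3, 10), (5, 3), (7, 2), (13, 1), (19, 1), (31, 1)] r 7 [s] = true →
      r ∣ Nat.card R → s ∣ Nat.card R → Three T R := by
    intro r s hr hrp hsp hsd hchk hrR hsR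
    refine key (miss_of_chk tab known hc hrp (by norm_num) ?_ hchk hy (hyr r hr) hR hrR ?_)
    · intro s' hs'
      rw [List.mem_singleton] at hs'
      subst hs'
      exact ⟨hsp, hno _ hsp hsd⟩
    · intro s' hs'
      rw [List.mem_singleton] at hs'
      subst hs'
      exact hsR
  have hd : ∀ p, (p = 13 ∨ p = 19 ∨ p = 31) → p ∣ Nat.card T := by
    rintro p (rfl | rfl | rfl) <;> rw [hc] <;> norm_num
  by_cases h13 : 13 ∣ Nat.card R
  · by_cases h19 : 19 ∣ Nat.card R
    · exact miss 19 13 (Or.inl rfl) p19 p13 (by norm_num) (by decide +kernel) h19 h13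
    · by_cases h31 : 31 ∣ Nat.card R
      · exact miss 31 13 (Or.inr rfl) p31 p13 (by norm_num) (by decide +kernel) h31 h13
      · exact Three.of_two_primes p31 p19 (by norm_num) (hd 19 (by simp)) h31 h19 hs31
  · by_cases h19 : 19 ∣ Nat.card R
    · by_cases h31 : 31 ∣ Nat.card R
      · exact miss 19 31 (Or.inl rfl) p19 p31 (by norm_num) (by decide +kernel) h19 h31
      · exact Three.of_two_primes p13 p31 (by norm_num) (hd 31 (by simp)) h13 h31 hs13
    · exact Three.of_two_primes p13 p19 (by norm_num) (hd 19 (by simp)) h13 h19 hs13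

/-- **the row of the Thompson group** -/
theorem rowS_th (tab : OrderTable.{u}) (known : Known.{u}) {T : Type u} [Group T] [Finite T] (h : Spor.IsoTh T) :
    RowS T :=
  RowS.of_three fun M hM => three_th tab known h M hM.1

end Cfsg.Agent.H257.El.Der
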